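/-
Fixed points of automorphisms and generation of a two-group by them.
-/
import Mathlib
import Cfsg.Agent.Lib.Coprime.Action
import Cfsg.Agent.Lib.LAEven56.FewFixed.Q8

set_option autoImplicit false
set_option linter.style.haveILetI false

namespace Cfsg.Agent.Lib.LAEven56.FewFixed

variable {W : Type*} [Group W]

/-- The fixed-point subgroup of an automorphism. -/
def fixS (e : MulAut W) : Subgroup W where
  carrier := {x | e x = x}
  one_mem' := map_one e
  mul_mem' {x y} hx hy := by show e (x * y) = x * y; rw [map_mul, hx, hy]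
  inv_mem' {x} hx := by show e x⁻¹ = x⁻¹; rw [map_inv, hx]

theorem mem_fixS {e : MulAut W} {x : W} : x ∈ fixS e ↔ e x = x := Iff.rfl

/-- Elements fixed by two automorphisms are fixed by the group they generate. -/
theorem fixed_of_closure {s : Set (MulAut W)} {g : MulAut W} (hg : g ∈ Subgroup.closure s) {x : W}
    (h : ∀ e ∈ s, e x = x) : g x = x := by
  induction hg using Subgroup.closure_induction with
  | mem y hy => exact h y hy
  | one => rfl
  | mul y y' _ _ i i' => rw [MulAut.mul_apply, i', i]
  | inv y _ i =>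
    have h1 : y⁻¹ (y x) = x := by rw [← MulAut.mul_apply, inv_mul_cancel, MulAut.one_apply]
    rwa [i] at h1

theorem fixed_of_zpowers {e g : MulAut W} (hg : g ∈ Subgroup.zpowers e) {x : W} (h : e x = x) :
    g x = x := by
  rw [Subgroup.zpowers_eq_closure] at hg
  exact fixed_of_closure hg (by rintro _ rfl; exact h)

theorem fixS_invariant {e g : MulAut W} (hc : Commute g e) : ∀ x ∈ fixS e, g x ∈ fixS e := by
  intro x hx
  rw [mem_fixS, ← MulAut.mul_apply, ← hc.eq, MulAut.mul_apply, mem_fixS.1 hx]

/-- Restriction of automorphisms to an invariant subgroup. -/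
def resHom (K : Subgroup (MulAut W)) (F : Subgroup W) (hF : ∀ g ∈ K, ∀ x ∈ F, g x ∈ F) :
    K →* MulAut F where
  toFun g :=
    { toFun := fun x => ⟨(g : MulAut W) (x : W), hF g g.2 x x.2⟩
      invFun := fun x => ⟨(g : MulAut W)⁻¹ (x : W), hF _ (K.inv_mem g.2) x x.2⟩
      left_inv := fun x => Subtype.ext ((g : MulAut W).symm_apply_apply (x : W))
      right_inv := fun x => Subtype.ext ((g : MulAut W).apply_symm_apply (x : W))
      map_mul' := fun x y => Subtype.ext (map_mul (g : MulAut W) (x : W) y) }
  map_one' := MulEquiv.ext fun x => Subtype.ext rfl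
  map_mul' a b := MulEquiv.ext fun x => Subtype.ext rfl

theorem resHom_apply (K : Subgroup (MulAut W)) (F : Subgroup W) (hF : ∀ g ∈ K, ∀ x ∈ F, g x ∈ F)
    (g : K) (x : F) : ((resHom K F hF g) x : W) = (g : MulAut W) (x : W) := rfl

/-- A two-group acted on by a noncyclic abelian group of odd order is generated by fixed points. -/
theorem closure_fixed {A C : Type*} [Group A] [Finite A] [Group C] [Finite C] (hC : IsPGroup 2 C)
    (ρ : A →* MulAut C) (hA : ∀ a b : A, a * b = b * a) (hnc : ¬ IsCyclic A)
    (hodd : Odd (Nat.card A)) : Subgroup.closure {x : C | ∃ a : A, a ≠ 1 ∧ ρ a x = x} = ⊤ := by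
  haveI : Fact (Nat.Prime 2) := ⟨Nat.prime_two⟩
  letI : MulDistribMulAction A C := MulDistribMulAction.compHom C ρ
  obtain ⟨k, hk⟩ := hC.exists_card_eq
  exact Coprime.Action.closure_fixed_eq_top hA hnc (by
    rw [hk]; exact Nat.Coprime.pow_right k (Nat.coprime_two_right.2 hodd))

/-- Groups of exponent `p` and order a square or more of `p` are not cyclic. -/
theorem not_isCyclic {A : Type*} [Group A] [Finite A] {p : ℕ} (hp : p.Prime)
    (he : ∀ a : A, a ^ p = 1) (hcard : p < Nat.card A) : ¬ IsCyclic A := by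
  intro h
  obtain ⟨g, hg⟩ := h.exists_generator
  have h1 := orderOf_eq_card_of_forall_mem_zpowers hg
  have h2 := Nat.le_of_dvd hp.pos (orderOf_dvd_of_pow_eq_one (he g))
  omega

theorem odd_card {p : ℕ} (hp : p.Prime) (hp2 : p ≠ 2) {A : Type*} [Group A] [Finite A]
    (h : IsPGroup p A) : Odd (Nat.card A) := by
  haveI := Fact.mk hp
  obtain ⟨k, hk⟩ := h.exists_card_eq
  rw [hk]; exact (hp.odd_of_ne_two hp2).pow

end Cfsg.Agent.Lib.LAEven56.FewFixed
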