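/-
A group of order `p ^ 2` whose nontrivial elements fix at most one involution of a two-group.
-/
import Mathlib
import Cfsg.Agent.Lib.LAEven56.FewFixed.Basic

set_option autoImplicit false
set_option linter.style.haveILetI false

namespace Cfsg.Agent.Lib.LAEven56.FewFixed

variable {W : Type*} [Group W] [Finite W] {p : ℕ} [hp : Fact p.Prime]

/-- The hypotheses. -/
structure Hyp (E₀ : Subgroup (MulAut W)) (p : ℕ) : Prop where
  two : IsPGroup 2 W
  odd : p ≠ 2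
  comm : ∀ a ∈ E₀, ∀ b ∈ E₀, Commute a b
  expo : ∀ e ∈ E₀, e ^ p = 1
  card : Nat.card E₀ = p ^ 2
  uniq : ∀ e ∈ E₀, e ≠ 1 → ∀ x y : W, orderOf x = 2 → orderOf y = 2 → e x = x → e y = y → x = y

/-- A fixed-point subgroup isomorphic to `Q₈`. -/
structure IsQ (F : Subgroup W) (z : W) : Prop where
  card : Nat.card F = 8
  z_mem : z ∈ F
  center : ∀ x ∈ F, (∀ y ∈ F, Commute x y) → x = 1 ∨ x = z
  sq : ∀ x ∈ F, x * x = 1 ∨ x * x = z

/-- The conclusion of the analysis. -/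
structure Shape (E₀ : Subgroup (MulAut W)) (z : W) : Prop where
  z_ne : z ≠ 1
  z_sq : z * z = 1
  central : ∀ w : W, Commute z w
  z_fix : ∀ e ∈ E₀, e z = z
  fix_all : ∀ w : W, (∀ e ∈ E₀, e w = w) → w = 1 ∨ w = z
  cases : ∀ e ∈ E₀, e ≠ 1 → (∀ x ∈ fixS e, x = 1 ∨ x = z) ∨ IsQ (fixS e) z
  gen : Subgroup.closure {x : W | ∃ e ∈ E₀, e ≠ 1 ∧ e x = x} = ⊤

variable {E₀ : Subgroup (MulAut W)}

omit [Finite W] in
theorem Hyp.span (H : Hyp E₀ p) {e f : MulAut W} (he : e ∈ E₀) (he1 : e ≠ 1) (hf : f ∈ E₀)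
    (hfe : f ∉ Subgroup.zpowers e) : Subgroup.closure ({e, f} : Set (MulAut W)) = E₀ := by
  haveI : Finite E₀ := Nat.finite_of_card_ne_zero (by rw [H.card]; exact pow_ne_zero _ hp.out.ne_zero)
  have hle : Subgroup.closure ({e, f} : Set (MulAut W)) ≤ E₀ := by
    rw [Subgroup.closure_le]
    rintro x (rfl | rfl)
    · exact he
    · exact hf
  obtain ⟨k, hk2, hk⟩ := (Nat.dvd_prime_pow hp.out).1 (H.card ▸ Subgroup.card_dvd_of_le hle)
  have hzle : Subgroup.zpowers e ≤ Subgroup.closure ({e, f} : Set (MulAut W)) :=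
    Subgroup.zpowers_le.2 (Subgroup.subset_closure (Or.inl rfl))
  haveI : Finite (Subgroup.closure ({e, f} : Set (MulAut W))) :=
    Finite.of_injective _ (Subgroup.inclusion_injective hle)
  have hlt : Nat.card (Subgroup.zpowers e) < Nat.card (Subgroup.closure ({e, f} : Set (MulAut W))) := by
    refine lt_of_le_of_ne (Subgroup.card_le_of_le hzle) fun heq => hfe ?_
    rw [Subgroup.eq_of_le_of_card_ge hzle heq.ge]
    exact Subgroup.subset_closure (Or.inr rfl)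
  rw [Nat.card_zpowers, orderOf_eq_prime (H.expo e he) he1, hk] at hlt
  have h1 : 1 < k := (Nat.pow_lt_pow_iff_right hp.out.one_lt).1 (by rwa [pow_one])
  exact Subgroup.eq_of_le_of_card_ge hle (by rw [hk, H.card, show k = 2 by omega])

omit [Finite W] in
theorem Hyp.fixed_of_two (H : Hyp E₀ p) {e f : MulAut W} (he : e ∈ E₀) (he1 : e ≠ 1) (hf : f ∈ E₀)
    (hfe : f ∉ Subgroup.zpowers e) {x : W} (hex : e x = x) (hfx : f x = x) : ∀ g ∈ E₀, g x = x := by
  intro g hg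
  rw [← H.span he he1 hf hfe] at hg
  exact fixed_of_closure hg (by rintro d (rfl | rfl) <;> assumption)

omit [Finite W] in
theorem Hyp.fixS_eq (H : Hyp E₀ p) {e f : MulAut W} (he : e ∈ E₀) (hf : f ∈ E₀) (hf1 : f ≠ 1)
    (hfe : f ∈ Subgroup.zpowers e) : fixS f = fixS e := by
  have he1 : e ≠ 1 := by
    rintro rfl
    rw [Subgroup.zpowers_one_eq_bot, Subgroup.mem_bot] at hfe
    exact hf1 hfe
  haveI : Fact (Nat.card (Subgroup.zpowers e)).Prime :=
    ⟨by rw [Nat.card_zpowers, orderOf_eq_prime (H.expo e he) he1]; exact hp.out⟩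
  have hgen := zpowers_eq_top_of_prime_card (G := Subgroup.zpowers e) rfl (g := ⟨f, hfe⟩)
    (fun h => hf1 (congrArg Subtype.val h))
  have hef : e ∈ Subgroup.zpowers f := by
    have hmem : (⟨e, Subgroup.mem_zpowers e⟩ : Subgroup.zpowers e) ∈
        Subgroup.zpowers (⟨f, hfe⟩ : Subgroup.zpowers e) := hgen ▸ Subgroup.mem_top _
    obtain ⟨i, hi⟩ := Subgroup.mem_zpowers_iff.1 hmem
    exact Subgroup.mem_zpowers_iff.2 ⟨i, by simpa using congrArg Subtype.val hi⟩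
  ext x
  exact ⟨fun h => fixed_of_zpowers hef h, fun h => fixed_of_zpowers hfe h⟩

theorem Hyp.unique_fixS (H : Hyp E₀ p) {e : MulAut W} (he : e ∈ E₀) (he1 : e ≠ 1) (x y : fixS e)
    (hx : orderOf x = 2) (hy : orderOf y = 2) : x = y := by
  rw [← Subgroup.orderOf_coe] at hx hy
  exact Subtype.ext (H.uniq e he he1 _ _ hx hy x.2 y.2)

/-- The analysis of the fixed-point subgroups. -/
theorem Hyp.shape (H : Hyp E₀ p) : p = 3 ∧ ∃ z, Shape E₀ z := by
  classical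
  have hE : IsPGroup p E₀ := IsPGroup.of_card H.card
  haveI : Finite E₀ := Nat.finite_of_card_ne_zero (by rw [H.card]; exact pow_ne_zero _ hp.out.ne_zero)
  have hexp : ∀ a : E₀, a ^ p = 1 := fun a => Subtype.ext (by simpa using H.expo a a.2)
  have hlt : p < Nat.card E₀ := by rw [H.card, sq]; exact lt_mul_self hp.out.one_lt
  have hgen : Subgroup.closure {x : W | ∃ e ∈ E₀, e ≠ 1 ∧ e x = x} = ⊤ := by
    refine top_le_iff.1 ((closure_fixed H.two E₀.subtype (fun a b => Subtype.ext (H.comm a a.2 b b.2))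
      (not_isCyclic hp.out hexp hlt) (odd_card hp.out H.odd hE)).ge.trans (Subgroup.closure_mono ?_))
    rintro x ⟨a, ha, hax⟩
    exact ⟨a, a.2, fun h => ha (Subtype.ext h), hax⟩
  have hoddord : ∀ (F : Subgroup W) (hF : ∀ g ∈ E₀, ∀ x ∈ F, g x ∈ F) (g : E₀),
      Odd (orderOf (resHom E₀ F hF g)) := fun F hF g =>
    (hp.out.odd_of_ne_two H.odd).of_dvd_nat
      (orderOf_dvd_of_pow_eq_one (by rw [← map_pow, hexp g, map_one]))
  -- an element moving some fixed-point subgroup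
  obtain ⟨e₀, he₀, he₀1, g₀, hg₀, x₀, hx₀, hmv⟩ : ∃ e ∈ E₀, e ≠ 1 ∧ ∃ g ∈ E₀, ∃ x ∈ fixS e, g x ≠ x := by
    by_contra hno
    push Not at hno
    obtain ⟨g, hg1⟩ : ∃ g : E₀, g ≠ 1 := by
      by_contra h
      push Not at h
      haveI : Subsingleton E₀ := ⟨fun a b => (h a).trans (h b).symm⟩
      rw [Nat.card_of_subsingleton (1 : E₀)] at hlt
      exact absurd hlt (by have := hp.out.one_lt; omega)
    refine hg1 (Subtype.ext (MulEquiv.ext fun x => ?_))
    have hall : Subgroup.closure {x : W | ∃ e ∈ E₀, e ≠ 1 ∧ e x = x} ≤ fixS (g : MulAut W) := by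
      rw [Subgroup.closure_le]
      rintro y ⟨e, he, he1, hey⟩
      exact hno e he he1 g g.2 y hey
    exact hall (hgen ▸ Subgroup.mem_top x)
  have hinv : ∀ e ∈ E₀, ∀ g ∈ E₀, ∀ x ∈ fixS e, g x ∈ fixS e :=
    fun e he g hg => fixS_invariant (H.comm g hg e he)
  have hQ : ∀ e ∈ E₀, e ≠ 1 → ∀ g ∈ E₀, (∃ x ∈ fixS e, g x ≠ x) →
      p = 3 ∧ ∃ z, IsQ (fixS e) z ∧ z ≠ 1 ∧ z * z = 1 ∧ (∀ w, (∀ d ∈ E₀, d w = w) → w = 1 ∨ w = z) ∧
        (∀ d ∈ E₀, d z = z) ∧ ∀ y ∈ fixS e, Commute z y := by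
    rintro e he he1 g hg ⟨x, hx, hgx⟩
    set r := resHom E₀ (fixS e) (hinv e he)
    have hne : r ⟨g, hg⟩ ≠ 1 := fun h => hgx (congrArg Subtype.val (MulEquiv.ext_iff.1 h ⟨x, hx⟩))
    obtain ⟨z, hz⟩ := auto_cases (H.two.to_subgroup _) (H.unique_fixS he he1) (hoddord _ _ ⟨g, hg⟩) hne
    have h3 : p = 3 := by
      have hord : orderOf (r ⟨g, hg⟩) = p :=
        orderOf_eq_prime (by rw [← map_pow, hexp, map_one]) hne
      rw [← hord]
      exact orderOf_eq_prime hz.cube hne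
    have hzo : orderOf z = 2 := orderOf_eq_prime (by rw [sq]; exact hz.z_sq) hz.z_ne
    refine ⟨h3, z, ⟨hz.card, z.2, ?_, ?_⟩, ?_, ?_, ?_, ?_, ?_⟩
    · intro y hy hc
      rcases hz.center ⟨y, hy⟩ (fun u => Subtype.ext (hc u u.2).eq) with h | h
      · exact Or.inl (congrArg Subtype.val h)
      · exact Or.inr (congrArg Subtype.val h)
    · intro y hy
      rcases hz.sq ⟨y, hy⟩ with h | h
      · exact Or.inl (congrArg Subtype.val h)
      · exact Or.inr (congrArg Subtype.val h)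
    · exact fun h => hz.z_ne (Subtype.ext h)
    · exact congrArg Subtype.val hz.z_sq
    · intro w hw
      rcases (hz.fix ⟨w, hw e he⟩).1 (Subtype.ext (hw g hg)) with h | h
      · exact Or.inl (congrArg Subtype.val h)
      · exact Or.inr (congrArg Subtype.val h)
    · intro d hd
      exact congrArg Subtype.val (H.unique_fixS he he1 (r ⟨d, hd⟩ z) z
        (by rw [MulEquiv.orderOf_eq, hzo]) hzo)
    · exact fun y hy => congrArg Subtype.val (hz.z_comm ⟨y, hy⟩)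
  obtain ⟨h3, z, hQ₀, hz1, hz2, hfix, hzfix, -⟩ := hQ e₀ he₀ he₀1 g₀ hg₀ ⟨x₀, hx₀, hmv⟩
  have hcases : ∀ e ∈ E₀, e ≠ 1 →
      ((∀ x ∈ fixS e, x = 1 ∨ x = z) ∨ IsQ (fixS e) z) ∧ ∀ x ∈ fixS e, Commute z x := by
    intro e he he1
    by_cases hm : ∃ g ∈ E₀, ∃ x ∈ fixS e, g x ≠ x
    · obtain ⟨g, hg, hx⟩ := hm
      obtain ⟨-, z', hQ', hz'1, -, -, hz'fix, hz'c⟩ := hQ e he he1 g hg hx
      obtain rfl : z' = z := (hfix z' hz'fix).resolve_left hz'1
      exact ⟨Or.inr hQ', hz'c⟩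
    · push Not at hm
      have h1 : ∀ x ∈ fixS e, x = 1 ∨ x = z := fun x hx => hfix x (fun d hd => hm d hd x hx)
      refine ⟨Or.inl h1, fun x hx => ?_⟩
      rcases h1 x hx with rfl | rfl
      · exact Commute.one_right _
      · exact Commute.refl _
  refine ⟨h3, z, ⟨hz1, hz2, fun w => ?_, hzfix, hfix, fun e he he1 => (hcases e he he1).1, hgen⟩⟩
  have hall : Subgroup.closure {x : W | ∃ e ∈ E₀, e ≠ 1 ∧ e x = x} ≤ Subgroup.centralizer {z} := by
    rw [Subgroup.closure_le]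
    rintro y ⟨e, he, he1, hey⟩
    exact Subgroup.mem_centralizer_iff.2 fun u hu => by
      rw [Set.mem_singleton_iff.1 hu]; exact ((hcases e he he1).2 y hey).eq
  exact Subgroup.mem_centralizer_iff.1 (hall (hgen ▸ Subgroup.mem_top w)) z rfl

end Cfsg.Agent.Lib.LAEven56.FewFixed
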