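/-
The two-group is a central product of the fixed-point quaternion groups.
-/
import Mathlib
import Cfsg.Agent.Lib.LAEven56.FewFixed.Core
import Cfsg.Agent.Lib.PGroups.Frattini

set_option autoImplicit false
set_option linter.style.haveILetI false

namespace Cfsg.Agent.Lib.LAEven56.FewFixed

open scoped commutatorElement

variable {W : Type*} [Group W] [Finite W] {p : ℕ} [hp : Fact p.Prime] {E₀ : Subgroup (MulAut W)} {z : W}

omit [Finite W] in
theorem Shape.mem_iff (S : Shape E₀ z) {x : W} : x ∈ Subgroup.zpowers z ↔ x = 1 ∨ x = z := by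
  refine ⟨?_, ?_⟩
  · rintro ⟨i, rfl⟩
    show z ^ i = 1 ∨ z ^ i = z
    rcases Int.even_or_odd i with ⟨k, rfl⟩ | ⟨k, rfl⟩
    · left; rw [← two_mul, zpow_mul, zpow_two, S.z_sq, one_zpow]
    · right; rw [zpow_add, zpow_mul, zpow_two, S.z_sq, one_zpow, one_mul, zpow_one]
  · rintro (rfl | rfl)
    · exact one_mem _
    · exact Subgroup.mem_zpowers _

omit [Finite W] in
theorem Shape.normal (S : Shape E₀ z) : (Subgroup.zpowers z).Normal :=
  ⟨fun x hx g => by
    rcases S.mem_iff.1 hx with rfl | rfl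
    · simp
    · rw [← (S.central g).eq, mul_inv_cancel_right]; exact Subgroup.mem_zpowers _⟩

omit [Finite W] in
theorem Shape.comm_eq (S : Shape E₀ z) {x y : W} (h : ⁅x, y⁆ ∈ Subgroup.zpowers z) (w : W) :
    w * ⁅x, y⁆ = ⁅x, y⁆ * w := by
  rcases S.mem_iff.1 h with h | h <;> rw [h]
  · simp
  · exact (S.central w).eq.symm

omit [Finite W] in
theorem Shape.comm_mul_left (S : Shape E₀ z) {a b w : W} (hb : ⁅b, w⁆ ∈ Subgroup.zpowers z) :
    ⁅a * b, w⁆ = ⁅b, w⁆ * ⁅a, w⁆ := by
  calc ⁅a * b, w⁆ = a * ⁅b, w⁆ * (w * a⁻¹ * w⁻¹) := by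
        rw [commutatorElement_def, commutatorElement_def]; group
    _ = ⁅b, w⁆ * ⁅a, w⁆ := by rw [S.comm_eq hb a, commutatorElement_def, commutatorElement_def]; group

omit [Finite W] in
theorem Shape.comm_mul_right (S : Shape E₀ z) {x a b : W} (hb : ⁅x, b⁆ ∈ Subgroup.zpowers z) :
    ⁅x, a * b⁆ = ⁅x, a⁆ * ⁅x, b⁆ := by
  calc ⁅x, a * b⁆ = ⁅x, a⁆ * (a * ⁅x, b⁆ * a⁻¹) := by
        rw [commutatorElement_def, commutatorElement_def, commutatorElement_def]; group
    _ = ⁅x, a⁆ * ⁅x, b⁆ := by rw [S.comm_eq hb a, mul_inv_cancel_right]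

omit [Finite W] hp in
theorem Shape.map_comm (S : Shape E₀ z) {e : MulAut W} (he : e ∈ E₀) {x y : W}
    (h : ⁅x, y⁆ ∈ Subgroup.zpowers z) : ⁅e x, e y⁆ = ⁅x, y⁆ := by
  rw [← map_commutatorElement]
  rcases S.mem_iff.1 h with h | h <;> rw [h]
  · exact map_one e
  · exact S.z_fix e he

/-- Elements fixed by independent automorphisms, commuting modulo the centre, commute. -/
theorem Shape.pair_commute (S : Shape E₀ z) (H : Hyp E₀ p) (h3 : p = 3) {e f : MulAut W} (he : e ∈ E₀)
    (he1 : e ≠ 1) (hf : f ∈ E₀) (hf1 : f ≠ 1) (hfe : f ∉ Subgroup.zpowers e) {x y : W} (hx : e x = x)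
    (hy : f y = y) (hmod : ∀ u v : W, e u = u → f v = v → ⁅u, v⁆ ∈ Subgroup.zpowers z) : Commute x y := by
  rcases S.cases f hf hf1 with hsmall | hQ
  · rcases hsmall y hy with rfl | rfl
    · exact Commute.one_right x
    · exact (S.central x).symm
  have hinv : ∀ v, f v = v → f (e v) = e v := fun v hv =>
    fixS_invariant (H.comm e he f hf) v hv
  have he3 : e * (e * e) = 1 := by
    have := H.expo e he
    rw [h3, pow_three] at this
    exact this
  set y₁ := e y with hy₁
  set y₂ := e y₁ with hy₂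
  have hy1F : f y₁ = y₁ := hinv y hy
  have hy2F : f y₂ = y₂ := hinv y₁ hy1F
  have hey2 : e y₂ = y := by
    rw [hy₂, hy₁, ← MulAut.mul_apply, ← MulAut.mul_apply, mul_assoc, he3, MulAut.one_apply]
  set P := y * (y₁ * y₂) with hP
  have hPF : P ∈ fixS f := (fixS f).mul_mem hy ((fixS f).mul_mem hy1F hy2F)
  -- the product of the three translates is central
  have hPe : ∃ c ∈ Subgroup.zpowers z, e P = P * c := by
    have h1 : e P = y⁻¹ * P * y := by
      rw [hP, map_mul, map_mul, ← hy₁, ← hy₂, hey2]; group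
    refine ⟨P⁻¹ * y⁻¹ * P * y, ?_, by rw [h1]; group⟩
    have hc : ⁅P⁻¹, y⁻¹⁆ = P⁻¹ * y⁻¹ * P * y := by rw [commutatorElement_def, inv_inv, inv_inv]
    rw [← hc]
    set u := P⁻¹
    set v := y⁻¹
    have hu : u ∈ fixS f := (fixS f).inv_mem hPF
    have hv : v ∈ fixS f := (fixS f).inv_mem hy
    have hsqmem : ∀ w ∈ fixS f, w * w ∈ Subgroup.zpowers z := fun w hw => S.mem_iff.2 (hQ.sq w hw)
    have hcent : ∀ w ∈ Subgroup.zpowers z, ∀ g : W, g * w = w * g := by
      intro w hw g
      rcases S.mem_iff.1 hw with rfl | rfl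
      · simp
      · exact (S.central g).eq.symm
    have e1 : ⁅u, v⁆ = (u * v) * (u * v) * ((v * v)⁻¹ * (u * u)⁻¹) := by
      have a1 := hcent _ ((Subgroup.zpowers z).inv_mem (hsqmem u hu)) (u * v)
      have a2 := hcent _ ((Subgroup.zpowers z).inv_mem (hsqmem v hv)) (u * v)
      calc ⁅u, v⁆ = u * v * u⁻¹ * v⁻¹ := commutatorElement_def u v
        _ = u * v * ((u * u)⁻¹ * (u * v) * (v * v)⁻¹) := by group
        _ = u * v * ((u * v) * (u * u)⁻¹ * (v * v)⁻¹) := by rw [a1]
        _ = (u * v) * (u * v) * ((v * v)⁻¹ * (u * u)⁻¹) := by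
          rw [hcent _ ((Subgroup.zpowers z).inv_mem (hsqmem u hu)) (v * v)⁻¹]; group
    rw [e1]
    exact Subgroup.mul_mem _ (hsqmem _ ((fixS f).mul_mem hu hv))
      (Subgroup.mul_mem _ (Subgroup.inv_mem _ (hsqmem v hv)) (Subgroup.inv_mem _ (hsqmem u hu)))
  have hPfix : e P = P := by
    obtain ⟨c, hc, hec⟩ := hPe
    rcases S.mem_iff.1 hc with rfl | rfl
    · rw [hec, mul_one]
    · exfalso
      have h2 : e (e (e P)) = P * c := by
        rw [hec, map_mul, hec, S.z_fix e he, mul_assoc, S.z_sq, mul_one, hec]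
      rw [← MulAut.mul_apply, ← MulAut.mul_apply, mul_assoc, he3, MulAut.one_apply] at h2
      exact S.z_ne (left_eq_mul.1 h2)
  have hPz : P ∈ Subgroup.zpowers z :=
    S.mem_iff.2 (S.fix_all P (H.fixed_of_two he he1 hf hfe hPfix hPF))
  have hc1 : ⁅x, y₁⁆ = ⁅x, y⁆ := by
    conv_lhs => rw [← hx, hy₁]
    exact S.map_comm he (hmod x y hx hy)
  have hc2 : ⁅x, y₂⁆ = ⁅x, y⁆ := by
    conv_lhs => rw [← hx, hy₂]
    rw [S.map_comm he (hmod x y₁ hx hy1F), hc1]
  have hxP : ⁅x, P⁆ = 1 := by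
    rw [commutatorElement_eq_one_iff_mul_comm]
    rcases S.mem_iff.1 hPz with h | h <;> rw [h]
    · simp
    · exact (S.central x).eq.symm
  have hm2 : ⁅x, y₁ * y₂⁆ = ⁅x, y⁆ * ⁅x, y⁆ := by
    rw [S.comm_mul_right (hmod x y₂ hx hy2F), hc1, hc2]
  have hmz : ⁅x, y₁ * y₂⁆ ∈ Subgroup.zpowers z := hmod x _ hx ((fixS f).mul_mem hy1F hy2F)
  rw [hP, S.comm_mul_right hmz, hm2] at hxP
  rcases S.mem_iff.1 (hmod x y hx hy) with h | h
  · exact commutatorElement_eq_one_iff_mul_comm.1 h
  · rw [h, S.z_sq, mul_one] at hxP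
    exact absurd hxP S.z_ne

/-- The family of quaternion fixed-point subgroups. -/
def fam (E₀ : Subgroup (MulAut W)) : Set (Subgroup W) :=
  {F | ∃ e ∈ E₀, e ≠ 1 ∧ F = fixS e ∧ Nat.card F = 8}

theorem Shape.isQ_of_mem (S : Shape E₀ z) {F : Subgroup W} (hF : F ∈ fam E₀) : IsQ F z := by
  obtain ⟨e, he, he1, rfl, hcard⟩ := hF
  refine (S.cases e he he1).resolve_left fun h => ?_
  have : Nat.card (fixS e) ≤ ({1, z} : Set W).ncard := by
    rw [← SetLike.coe_sort_coe, Nat.card_coe_set_eq]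
    exact Set.ncard_le_ncard fun x hx => h x hx
  rw [hcard, Set.ncard_pair S.z_ne.symm] at this
  omega

/-- Generation by the family and the centre. -/
theorem Shape.gen_fam (S : Shape E₀ z) :
    Subgroup.closure ({x | ∃ F ∈ fam E₀, x ∈ F} ∪ {z}) = ⊤ := by
  refine top_le_iff.1 (S.gen.ge.trans ((Subgroup.closure_le _).2 ?_))
  rintro x ⟨e, he, he1, hex⟩
  rcases S.cases e he he1 with h | h
  · rcases h x hex with rfl | rfl
    · exact one_mem _
    · exact Subgroup.subset_closure (Or.inr rfl)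
  · exact Subgroup.subset_closure (Or.inl ⟨_, ⟨e, he, he1, rfl, h.card⟩, hex⟩)

/-- All commutators lie in the centre of order two. -/
theorem Shape.comm_mem (S : Shape E₀ z) (H : Hyp E₀ p) (h3 : p = 3) :
    ∀ x y : W, ⁅x, y⁆ ∈ Subgroup.zpowers z := by
  classical
  haveI := S.normal
  let π := QuotientGroup.mk' (Subgroup.zpowers z)
  have hπ : ∀ x y, ⁅x, y⁆ ∈ Subgroup.zpowers z ↔ Commute (π x) (π y) := fun x y => by
    rw [← QuotientGroup.eq_one_iff, ← commutatorElement_eq_one_iff_commute, ← map_commutatorElement]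
    rfl
  let Z₂ : Subgroup W := (Subgroup.center (W ⧸ Subgroup.zpowers z)).comap π
  have hZ₂ : ∀ x, x ∈ Z₂ ↔ ∀ y, ⁅x, y⁆ ∈ Subgroup.zpowers z := by
    intro x
    rw [Subgroup.mem_comap, Subgroup.mem_center_iff]
    refine ⟨fun h y => (hπ x y).2 (h (π y)).symm, fun h g => ?_⟩
    obtain ⟨y, rfl⟩ := QuotientGroup.mk'_surjective _ g
    exact ((hπ x y).1 (h y)).symm
  suffices hall : ∀ F ∈ fam E₀, F ≤ Z₂ by
    intro x y
    refine (hZ₂ x).1 ?_ y
    have htop : Subgroup.closure ({x | ∃ F ∈ fam E₀, x ∈ F} ∪ {z}) ≤ Z₂ := by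
      rw [Subgroup.closure_le]
      rintro u (⟨F, hF, hu⟩ | hu)
      · exact hall F hF hu
      · rw [Set.mem_singleton_iff.1 hu, SetLike.mem_coe, hZ₂]
        exact fun v => by rw [commutatorElement_eq_one_iff_mul_comm.2 (S.central v).eq]; exact one_mem _
    exact htop (S.gen_fam ▸ Subgroup.mem_top x)
  by_contra hno
  push Not at hno
  obtain ⟨F₁, hF₁, hF₁Z⟩ := hno
  set V : Set W := {x | ∃ F ∈ fam E₀, ¬ F ≤ Z₂ ∧ x ∈ F} ∪ {z}
  set W' := Subgroup.closure V
  set N := (Subgroup.zpowers z).subgroupOf W'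
  let Z' : Subgroup W' := (Subgroup.center (W' ⧸ N)).comap (QuotientGroup.mk' N)
  have hZ' : ∀ x : W', x ∈ Z' ↔ ∀ y : W', ⁅(x : W), (y : W)⁆ ∈ Subgroup.zpowers z := by
    intro x
    rw [Subgroup.mem_comap, Subgroup.mem_center_iff]
    have hq : ∀ y : W', Commute (QuotientGroup.mk' N x) (QuotientGroup.mk' N y) ↔
        ⁅(x : W), (y : W)⁆ ∈ Subgroup.zpowers z := fun y => by
      rw [← commutatorElement_eq_one_iff_commute, ← map_commutatorElement, QuotientGroup.mk'_apply,
        QuotientGroup.eq_one_iff, Subgroup.mem_subgroupOf]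
      rfl
    refine ⟨fun h y => (hq y).1 (h _).symm, fun h g => ?_⟩
    obtain ⟨y, rfl⟩ := QuotientGroup.mk'_surjective _ g
    exact ((hq y).2 (h y)).symm
  set T : Subgroup W := Z'.map W'.subtype
  have hTW : T ≤ W' := Subgroup.map_subtype_le _
  have hT : ∀ x ∈ T, ∀ y ∈ W', ⁅x, y⁆ ∈ Subgroup.zpowers z := by
    rintro _ ⟨x, hx, rfl⟩ y hy
    exact (hZ' x).1 hx ⟨y, hy⟩
  have hTmem : ∀ x ∈ W', (∀ y ∈ W', ⁅x, y⁆ ∈ Subgroup.zpowers z) → x ∈ T := fun x hx h =>
    ⟨⟨x, hx⟩, (hZ' _).2 fun y => h y y.2, rfl⟩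
  have hF₁W : F₁ ≤ W' := fun x hx => Subgroup.subset_closure (Or.inl ⟨F₁, hF₁, hF₁Z, hx⟩)
  have hzW : z ∈ W' := Subgroup.subset_closure (Or.inr rfl)
  obtain ⟨w₀, hw₀, hw₀z⟩ : ∃ w ∈ T, w ∉ Subgroup.zpowers z := by
    haveI : Nontrivial (W' ⧸ N) := by
      rw [QuotientGroup.nontrivial_iff]
      intro htop
      refine hF₁Z fun x hx => (hZ₂ x).2 fun y => ?_
      have hx' : x ∈ Subgroup.zpowers z :=
        Subgroup.mem_subgroupOf.1 (htop.symm ▸ Subgroup.mem_top (⟨x, hF₁W hx⟩ : W') : _ ∈ N)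
      rw [commutatorElement_eq_one_iff_mul_comm.2]
      · exact one_mem _
      · rcases S.mem_iff.1 hx' with rfl | rfl
        · simp
        · exact (S.central y).eq
    haveI : Fact (Nat.Prime 2) := ⟨Nat.prime_two⟩
    haveI := ((H.two.to_subgroup W').to_quotient N).center_nontrivial
    obtain ⟨c, hc⟩ := exists_ne (1 : Subgroup.center (W' ⧸ N))
    obtain ⟨w, hw⟩ := QuotientGroup.mk'_surjective N (c : W' ⧸ N)
    refine ⟨w, ⟨w, ?_, rfl⟩, fun hz' => hc (Subtype.ext ?_)⟩
    · show QuotientGroup.mk' N w ∈ Subgroup.center (W' ⧸ N)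
      rw [hw]; exact c.2
    · rw [← hw, QuotientGroup.mk'_apply]
      exact (QuotientGroup.eq_one_iff w).2 (Subgroup.mem_subgroupOf.2 hz')
  -- invariance
  have hWinv : ∀ g ∈ E₀, ∀ x ∈ W', g x ∈ W' := by
    intro g hg x hx
    have : W' ≤ W'.comap g.toMonoidHom := by
      rw [Subgroup.closure_le]
      rintro u (⟨F, hF, hFn, hu⟩ | hu)
      · obtain ⟨e, he, he1, rfl, hc⟩ := hF
        exact Subgroup.subset_closure (Or.inl ⟨_, ⟨e, he, he1, rfl, hc⟩, hFn,
          fixS_invariant (H.comm g hg e he) u hu⟩)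
      · rw [Set.mem_singleton_iff.1 hu]
        show g z ∈ W'
        rw [S.z_fix g hg]; exact hzW
    exact this hx
  have hTinv : ∀ g ∈ E₀, ∀ x ∈ T, g x ∈ T := by
    intro g hg x hx
    refine hTmem _ (hWinv g hg x (hTW hx)) fun y hy => ?_
    have hy' : g⁻¹ y ∈ W' := hWinv _ (E₀.inv_mem hg) y hy
    have h1 := hT x hx _ hy'
    have h2 := S.map_comm hg h1
    rw [← MulAut.mul_apply, mul_inv_cancel, MulAut.one_apply] at h2
    rwa [h2]
  -- a fixed-point subgroup inside the second centre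
  have hE : IsPGroup p E₀ := IsPGroup.of_card H.card
  haveI : Finite E₀ := Nat.finite_of_card_ne_zero (by rw [H.card]; exact pow_ne_zero _ hp.out.ne_zero)
  have hlt : p < Nat.card E₀ := by rw [H.card, sq]; exact lt_mul_self hp.out.one_lt
  have hgenT := closure_fixed (H.two.to_subgroup T) (resHom E₀ T hTinv)
    (fun a b => Subtype.ext (H.comm a a.2 b b.2))
    (not_isCyclic hp.out (fun a : E₀ => Subtype.ext (by simpa using H.expo a a.2)) hlt)
    (odd_card hp.out H.odd hE)
  obtain ⟨e, he, he1, u, huT, heu, huz⟩ : ∃ e ∈ E₀, e ≠ 1 ∧ ∃ u ∈ T, e u = u ∧ u ∉ Subgroup.zpowers z := by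
    by_contra hno'
    push Not at hno'
    have : (⊤ : Subgroup T) ≤ (Subgroup.zpowers z).subgroupOf T := by
      rw [← hgenT, Subgroup.closure_le]
      rintro u ⟨a, ha, hau⟩
      exact Subgroup.mem_subgroupOf.2 (hno' a a.2 (fun h => ha (Subtype.ext h)) u u.2
        (congrArg Subtype.val hau))
    exact hw₀z (Subgroup.mem_subgroupOf.1 (this (Subgroup.mem_top (⟨w₀, hw₀⟩ : T))))
  have hQe : IsQ (fixS e) z := (S.cases e he he1).resolve_left fun h => huz (S.mem_iff.2 (h u heu))
  have hzT : z ∈ T := hTmem z hzW fun y _ => by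
    rw [commutatorElement_eq_one_iff_mul_comm.2 (S.central y).eq]; exact one_mem _
  have hFT : fixS e ≤ T := by
    obtain ⟨g, hg, hge⟩ : ∃ g ∈ E₀, g ∉ Subgroup.zpowers e := by
      by_contra h
      push Not at h
      have := Subgroup.card_le_of_le (show E₀ ≤ Subgroup.zpowers e from h)
      rw [Nat.card_zpowers, orderOf_eq_prime (H.expo e he) he1] at this
      omega
    have hu1 : u ≠ 1 := fun h => huz (h ▸ one_mem _)
    have huzz : u ≠ z := fun h => huz (h ▸ Subgroup.mem_zpowers _)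
    have hgu : g u ≠ u := fun h => huz (S.mem_iff.2 (S.fix_all u (H.fixed_of_two he he1 hg hge heu h)))
    have hgu1 : g u ≠ 1 := fun h => hu1 ((map_eq_one_iff g g.injective).1 h)
    have hguz : g u ≠ z := fun h => huzz (g.injective (h.trans (S.z_fix g hg).symm))
    have hguuz : g u ≠ u * z := by
      intro h
      have h3' : g * (g * g) = 1 := by
        have := H.expo g hg
        rwa [h3, pow_three] at this
      have h2 : g (g (g u)) = u * z := by
        rw [h, map_mul, h, S.z_fix g hg, mul_assoc, S.z_sq, mul_one, h]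
      rw [← MulAut.mul_apply, ← MulAut.mul_apply, mul_assoc, h3', MulAut.one_apply] at h2
      exact S.z_ne (left_eq_mul.1 h2)
    set U := T ⊓ fixS e
    have hmem : ∀ v ∈ [1, z, u, u * z, g u], v ∈ U := by
      intro v hv
      simp only [List.mem_cons, List.not_mem_nil, or_false] at hv
      rcases hv with h | h | h | h | h <;> rw [h]
      exacts [U.one_mem, ⟨hzT, hQe.z_mem⟩, ⟨huT, heu⟩,
        U.mul_mem ⟨huT, heu⟩ ⟨hzT, hQe.z_mem⟩,
        ⟨hTinv g hg u huT, fixS_invariant (H.comm g hg e he) u heu⟩]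
    have hnd : [1, z, u, u * z, g u].Nodup := by
      have c1 : u * z ≠ 1 := fun h => huzz (by
        have := congrArg (· * z) h
        simp only [mul_assoc, S.z_sq, mul_one, one_mul] at this
        exact this)
      have c2 : u * z ≠ z := fun h => hu1 (mul_eq_right.1 h)
      have c3 : u * z ≠ u := fun h => S.z_ne (mul_eq_left.1 h)
      simp [List.nodup_cons, S.z_ne.symm, hu1.symm, huzz.symm, hgu1.symm, hguz.symm, hgu.symm,
        hguuz.symm, c1.symm, c2.symm, c3.symm]
    have h5 : 5 ≤ Nat.card U := by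
      rw [← SetLike.coe_sort_coe, Nat.card_coe_set_eq]
      calc 5 = ([1, z, u, u * z, g u].toFinset : Set W).ncard := by
            rw [Set.ncard_coe_finset, List.toFinset_card_of_nodup hnd]; rfl
        _ ≤ (U : Set W).ncard := Set.ncard_le_ncard fun v hv => hmem v (by simpa using hv)
    have h8 := Subgroup.card_dvd_of_le (show U ≤ fixS e from inf_le_right)
    rw [hQe.card] at h8
    have h88 : Nat.card U = 8 := by
      have := Nat.le_of_dvd (by norm_num) h8
      interval_cases h : Nat.card U <;> omega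
    intro v hv
    exact (show fixS e ≤ U from (Subgroup.eq_of_le_of_card_ge inf_le_right
      (by rw [h88, hQe.card])).ge) hv |>.1
  have hFfam : fixS e ∈ fam E₀ := ⟨e, he, he1, rfl, hQe.card⟩
  by_cases hI : fixS e ≤ Z₂
  · -- the subgroup would be abelian
    have hcomm : ∀ y ∈ fixS e, W' ≤ Subgroup.centralizer {y} := by
      intro y hy
      rw [Subgroup.closure_le]
      rintro v (⟨F, hF, hFn, hv⟩ | hv)
      · obtain ⟨d, hd, hd1, rfl, hdc⟩ := hF
        have hde : d ∉ Subgroup.zpowers e := fun h => hFn (H.fixS_eq he hd hd1 h ▸ hI)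
        refine Subgroup.mem_centralizer_iff.2 fun t ht => ?_
        rw [Set.mem_singleton_iff.1 ht]
        exact (S.pair_commute H h3 he he1 hd hd1 hde hy hv
          (fun a b ha _ => (hZ₂ a).1 (hI ha) b)).eq
      · refine Subgroup.mem_centralizer_iff.2 fun t _ => ?_
        rw [Set.mem_singleton_iff.1 hv]
        exact (S.central t).eq.symm
    have := hQe.center u heu fun y hy =>
      (Subgroup.mem_centralizer_iff.1 (hcomm u heu (hTW (hFT hy))) u rfl)
    exact huz (S.mem_iff.2 this)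
  · refine hI fun x hx => (hZ₂ x).2 fun y => ?_
    have hle : Subgroup.closure ({x | ∃ F ∈ fam E₀, x ∈ F} ∪ {z}) ≤
        (Subgroup.centralizer {π x}).comap π := by
      rw [Subgroup.closure_le]
      rintro v (⟨F, hF, hv⟩ | hv)
      · rw [SetLike.mem_coe, Subgroup.mem_comap, Subgroup.mem_centralizer_iff]
        intro t ht
        rw [Set.mem_singleton_iff.1 ht]
        by_cases hFn : F ≤ Z₂
        · exact (((hπ v x).1 ((hZ₂ v).1 (hFn hv) x)).symm).eq
        · exact ((hπ x v).1 (hT x (hFT hx) v (Subgroup.subset_closure (Or.inl ⟨F, hF, hFn, hv⟩)))).eq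
      · rw [SetLike.mem_coe, Subgroup.mem_comap, Subgroup.mem_centralizer_iff]
        intro t ht
        rw [Set.mem_singleton_iff.1 hv, Set.mem_singleton_iff.1 ht,
          show π z = 1 from (QuotientGroup.eq_one_iff z).2 (Subgroup.mem_zpowers z), mul_one, one_mul]
    exact (hπ x y).2 (Subgroup.mem_centralizer_iff.1 (hle (S.gen_fam ▸ Subgroup.mem_top y)) _ rfl)

/-- The structure and order. -/
theorem Shape.structure (S : Shape E₀ z) (H : Hyp E₀ p) (h3 : p = 3) :
    Cfsg.IsExtraspecial 2 W ∧ (Nat.card W = 2 ^ 5 ∨ Nat.card W = 2 ^ 7 ∨ Nat.card W = 2 ^ 9) ∧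
      (∀ x, x ∈ Subgroup.center W ↔ x = 1 ∨ x = z) ∧ ∀ x : W, x ^ 2 ∈ Subgroup.zpowers z := by
  classical
  haveI : Fact (Nat.Prime 2) := ⟨Nat.prime_two⟩
  have hcm := S.comm_mem H h3
  haveI := S.normal
  have hE : IsPGroup p E₀ := IsPGroup.of_card H.card
  haveI : Finite E₀ := Nat.finite_of_card_ne_zero (by rw [H.card]; exact pow_ne_zero _ hp.out.ne_zero)
  have hlt : p < Nat.card E₀ := by rw [H.card, sq]; exact lt_mul_self hp.out.one_lt
  -- distinct members commute
  have hFF : ∀ F ∈ fam E₀, ∀ F' ∈ fam E₀, F ≠ F' → ∀ x ∈ F, ∀ y ∈ F', Commute x y := by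
    rintro _ ⟨e, he, he1, rfl, -⟩ _ ⟨f, hf, hf1, rfl, -⟩ hne x hx y hy
    refine S.pair_commute H h3 he he1 hf hf1 (fun h => hne (H.fixS_eq he hf hf1 h).symm) hx hy
      fun a b _ _ => hcm a b
  -- squares
  have hsq : ∀ x : W, x ^ 2 ∈ Subgroup.zpowers z := by
    intro x
    have hx : x ∈ Subgroup.closure ({x | ∃ F ∈ fam E₀, x ∈ F} ∪ {z}) := S.gen_fam ▸ Subgroup.mem_top x
    induction hx using Subgroup.closure_induction with
    | mem y hy =>
      rcases hy with ⟨F, hF, hy⟩ | hy
      · exact S.mem_iff.2 (by rw [sq]; exact (S.isQ_of_mem hF).sq y hy)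
      · rw [Set.mem_singleton_iff.1 hy, sq, S.z_sq]; exact one_mem _
    | one => rw [one_pow]; exact one_mem _
    | mul a b _ _ ia ib =>
      have : (a * b) ^ 2 = a ^ 2 * (⁅b, a⁆ * b ^ 2) := by
        rw [commutatorElement_def, sq, sq, sq]
        have hc := S.comm_eq (hcm b a) b
        rw [commutatorElement_def] at hc
        calc a * b * (a * b) = a * a * ((a⁻¹ * b * a * b⁻¹) * (b * b)) := by group
          _ = a * a * ((b * a * b⁻¹ * a⁻¹) * (b * b)) := by
            congr 2
            have h5 := S.comm_eq (hcm b a) a⁻¹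
            rw [commutatorElement_def] at h5
            calc a⁻¹ * b * a * b⁻¹ = (a⁻¹ * (b * a * b⁻¹ * a⁻¹)) * a := by group
              _ = _ := by rw [h5]; group
      rw [this]
      exact Subgroup.mul_mem _ ia (Subgroup.mul_mem _ (hcm b a) ib)
    | inv a _ ia => rw [inv_pow]; exact Subgroup.inv_mem _ ia
  -- centre
  have hcen : ∀ x, x ∈ Subgroup.center W ↔ x = 1 ∨ x = z := by
    refine fun x => ⟨fun hx => ?_, ?_⟩
    · have hinv : ∀ g ∈ E₀, ∀ u ∈ Subgroup.center W, g u ∈ Subgroup.center W := fun g _ u hu =>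
        Subgroup.mem_center_iff.2 fun v => by
          have := congrArg g (Subgroup.mem_center_iff.1 hu (g.symm v))
          rwa [map_mul, map_mul, g.apply_symm_apply] at this
      have hg := closure_fixed (H.two.to_subgroup (Subgroup.center W)) (resHom E₀ _ hinv)
        (fun a b => Subtype.ext (H.comm a a.2 b b.2))
        (not_isCyclic hp.out (fun a : E₀ => Subtype.ext (by simpa using H.expo a a.2)) hlt)
        (odd_card hp.out H.odd hE)
      have hle : (⊤ : Subgroup (Subgroup.center W)) ≤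
          (Subgroup.zpowers z).subgroupOf (Subgroup.center W) := by
        rw [← hg, Subgroup.closure_le]
        rintro u ⟨a, ha, hau⟩
        refine Subgroup.mem_subgroupOf.2 (S.mem_iff.2 ?_)
        have hfu : (u : W) ∈ fixS (a : MulAut W) := congrArg Subtype.val hau
        rcases S.cases a a.2 (fun h => ha (Subtype.ext h)) with h | h
        · exact h u hfu
        · exact h.center u hfu fun y _ => (Subgroup.mem_center_iff.1 u.2 y).symm
      exact S.mem_iff.1 (Subgroup.mem_subgroupOf.1 (hle (Subgroup.mem_top (⟨x, hx⟩ : Subgroup.center W))))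
    · rintro (rfl | rfl)
      · exact one_mem _
      · exact Subgroup.mem_center_iff.2 fun v => (S.central v).eq.symm
  have hcz : Subgroup.center W = Subgroup.zpowers z := by
    ext x; rw [hcen, S.mem_iff]
  have hz2 : Nat.card (Subgroup.zpowers z) = 2 := by
    rw [Nat.card_zpowers]; exact orderOf_eq_prime (by rw [sq]; exact S.z_sq) S.z_ne
  -- order
  haveI : Finite (Subgroup W) := Finite.of_injective _ (SetLike.coe_injective (A := Subgroup W))
  let 𝓕 : Finset (Subgroup W) := (Set.toFinite (fam E₀)).toFinset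
  have hmem𝓕 : ∀ F, F ∈ 𝓕 ↔ F ∈ fam E₀ := fun F => Set.Finite.mem_toFinset _
  have hcardP : ∀ s : Finset (Subgroup W), (∀ F ∈ s, F ∈ fam E₀) →
      Nat.card ↥(s.sup id ⊔ Subgroup.zpowers z) = 2 * 4 ^ s.card := by
    intro s
    induction s using Finset.induction with
    | empty => intro _; rw [Finset.sup_empty, bot_sup_eq, hz2]; rfl
    | insert F t hFt ih =>
      intro hs
      have hF := hs F (Finset.mem_insert_self _ _)
      have hQ := S.isQ_of_mem hF
      specialize ih fun G hG => hs G (Finset.mem_insert_of_mem hG)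
      set P := t.sup id ⊔ Subgroup.zpowers z
      haveI : P.Normal := ⟨fun a ha g => by
        have h1 : ⁅g, a⁆ ∈ P := le_sup_right (a := t.sup id) (hcm g a)
        have := P.mul_mem h1 ha
        rwa [commutatorElement_def, inv_mul_cancel_right] at this⟩
      have hPF : P ⊓ F = Subgroup.zpowers z := by
        refine le_antisymm (fun x hx => S.mem_iff.2 ?_) (le_inf le_sup_right (Subgroup.zpowers_le.2 hQ.z_mem))
        refine hQ.center x hx.2 fun y hy => ?_
        have hle : P ≤ Subgroup.centralizer {y} := by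
          refine sup_le (Finset.sup_le fun G hG => fun v hv => Subgroup.mem_centralizer_iff.2 fun w hw => ?_) ?_
          · rw [Set.mem_singleton_iff.1 hw]
            exact (hFF F hF G (hs G (Finset.mem_insert_of_mem hG)) (fun e => hFt (e ▸ hG)) y hy v hv).eq
          · refine Subgroup.zpowers_le.2 (Subgroup.mem_centralizer_iff.2 fun w _ => ?_)
            exact (S.central w).eq.symm
        exact (Subgroup.mem_centralizer_iff.1 (hle hx.1) y rfl).symm
      have hnew : (insert F t).sup id ⊔ Subgroup.zpowers z = F ⊔ P := by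
        rw [Finset.sup_insert, id, sup_assoc]
      rw [hnew, Finset.card_insert_of_notMem hFt]
      have hidx : P.relIndex F = 4 := by
        rw [← Subgroup.inf_relIndex_right, hPF]
        have h := Subgroup.relIndex_mul_relIndex ⊥ (Subgroup.zpowers z) F bot_le
          (Subgroup.zpowers_le.2 hQ.z_mem)
        rw [Subgroup.relIndex_bot_left, Subgroup.relIndex_bot_left, hz2, hQ.card] at h
        omega
      have h := Subgroup.relIndex_mul_relIndex ⊥ P (F ⊔ P) bot_le le_sup_right
      rw [Subgroup.relIndex_bot_left, Subgroup.relIndex_bot_left, Subgroup.relIndex_sup_right, hidx,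
        ih] at h
      rw [← h, pow_succ, mul_assoc]
  have hall : 𝓕.sup id ⊔ Subgroup.zpowers z = ⊤ := by
    refine top_le_iff.1 (S.gen_fam.ge.trans ((Subgroup.closure_le _).2 ?_))
    rintro x (⟨F, hF, hx⟩ | hx)
    · exact le_sup_left (b := Subgroup.zpowers z) (Finset.le_sup (f := id) ((hmem𝓕 F).2 hF) hx)
    · rw [Set.mem_singleton_iff.1 hx]
      exact le_sup_right (a := 𝓕.sup id) (Subgroup.mem_zpowers z)
  have hW : Nat.card W = 2 * 4 ^ 𝓕.card := by
    rw [← hcardP 𝓕 fun F hF => (hmem𝓕 F).1 hF, hall, Subgroup.card_top]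
  have hk2 : 2 ≤ 𝓕.card := by
    by_contra h
    rcases Nat.eq_zero_or_pos 𝓕.card with h0 | h0
    · rw [Finset.card_eq_zero.1 h0, Finset.sup_empty, bot_sup_eq] at hall
      obtain ⟨g, hg1⟩ : ∃ g : E₀, g ≠ 1 := by
        by_contra hh
        push Not at hh
        haveI : Subsingleton E₀ := ⟨fun a b => (hh a).trans (hh b).symm⟩
        rw [Nat.card_of_subsingleton (1 : E₀)] at hlt
        exact absurd hlt (by have := hp.out.one_lt; omega)
      refine hg1 (Subtype.ext (MulEquiv.ext fun x => ?_))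
      rcases S.mem_iff.1 (hall ▸ Subgroup.mem_top x) with rfl | rfl
      · simp
      · exact S.z_fix g g.2
    · obtain ⟨F, hF⟩ := Finset.card_eq_one.1 (show 𝓕.card = 1 by omega)
      have hFfam := (hmem𝓕 F).1 (hF ▸ Finset.mem_singleton_self F)
      obtain ⟨e, he, he1, hFe, -⟩ := hFfam
      rw [hF, Finset.sup_singleton, id] at hall
      refine he1 (MulEquiv.ext fun x => ?_)
      have hle : F ⊔ Subgroup.zpowers z ≤ fixS e :=
        sup_le hFe.le (Subgroup.zpowers_le.2 (S.z_fix e he))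
      exact hle (hall ▸ Subgroup.mem_top x)
  have hk4 : 𝓕.card ≤ 4 := by
    have hch : ∀ F : {F // F ∈ 𝓕}, ∃ e ∈ E₀, e ≠ 1 ∧ (F : Subgroup W) = fixS e := fun F => by
      obtain ⟨e, he, he1, hFe, -⟩ := (hmem𝓕 F.1).1 F.2
      exact ⟨e, he, he1, hFe⟩
    choose r hrE hr1 hrF using hch
    let g : {F // F ∈ 𝓕} × Bool → {x : E₀ // x ≠ 1} := fun Fb =>
      ⟨⟨if Fb.2 then r Fb.1 else r Fb.1 * r Fb.1, by split_ifs <;> simp [hrE, E₀.mul_mem]⟩, fun h => by
        have h' := congrArg Subtype.val h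
        simp only at h'
        split_ifs at h' with hb
        · exact hr1 _ h'
        · have h3' := H.expo _ (hrE Fb.1)
          rw [h3, pow_three] at h3'
          exact hr1 Fb.1 (by rw [show ((1 : E₀) : MulAut W) = 1 from rfl] at h'; rwa [h', mul_one] at h3')⟩
    have hginj : Function.Injective g := by
      rintro ⟨F, b⟩ ⟨F', b'⟩ h
      have h' : (if b then r F else r F * r F) = (if b' then r F' else r F' * r F') :=
        congrArg (fun t : {x : E₀ // x ≠ 1} => ((t : E₀) : MulAut W)) h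
      have hsame : ∀ (F : {F // F ∈ 𝓕}) (b : Bool),
          fixS (if b then r F else r F * r F) = (F : Subgroup W) := by
        intro F b
        cases b
        · rw [if_neg (by simp), hrF F]
          refine H.fixS_eq (hrE F) (E₀.mul_mem (hrE F) (hrE F)) (fun h1 => ?_)
            (Subgroup.mul_mem _ (Subgroup.mem_zpowers _) (Subgroup.mem_zpowers _))
          have h3' := H.expo _ (hrE F)
          rw [h3, pow_three, h1, mul_one] at h3'
          exact hr1 F h3'
        · rw [if_pos rfl]; exact (hrF F).symm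
      have hFF' : F = F' := Subtype.ext (by rw [← hsame F b, h', hsame])
      subst hFF'
      cases b <;> cases b' <;> simp at h' ⊢
      · exact hr1 F h'
      · exact hr1 F h'
    have h8 : Nat.card {x : E₀ // x ≠ 1} = 8 := by
      haveI := Fintype.ofFinite E₀
      rw [Nat.card_eq_fintype_card, Fintype.card_subtype_compl, Fintype.card_subtype_eq,
        ← Nat.card_eq_fintype_card, H.card, h3]
      rfl
    have := Nat.card_le_card_of_injective g hginj
    rw [Nat.card_prod, Nat.card_eq_fintype_card (α := {F // F ∈ 𝓕}), Fintype.card_coe,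
      Nat.card_eq_fintype_card (α := Bool), Fintype.card_bool, h8] at this
    omega
  refine ⟨⟨⟨H.two, ?_, ?_⟩, by rw [hcz, hz2]⟩, ?_, hcen, hsq⟩
  · refine le_antisymm (hcz ▸ PGroups.frattini_le_of_pow_commutator (p := 2) _ hsq
      (Subgroup.commutator_le.2 fun a _ b _ => hcm a b)) ?_
    rw [hcz, Subgroup.zpowers_le]
    obtain ⟨F, hF⟩ := Finset.card_pos.1 (show 0 < 𝓕.card by omega)
    have hQ := S.isQ_of_mem ((hmem𝓕 F).1 hF)
    by_contra hzF
    refine absurd (Subgroup.card_le_of_le (show F ≤ Subgroup.zpowers z from fun x hx => S.mem_iff.2 ?_)) ?_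
    · refine hQ.center x hx fun y hy => ?_
      rcases S.mem_iff.1 (hcm x y) with h | h
      · exact commutatorElement_eq_one_iff_mul_comm.1 h
      · exact absurd (h ▸ PGroups.commutatorElement_mem_frattini H.two x y) hzF
    · rw [hQ.card, hz2]; norm_num
  · refine le_antisymm (Subgroup.commutator_le.2 fun a _ b _ => hcz ▸ hcm a b) ?_
    rw [hcz, Subgroup.zpowers_le]
    obtain ⟨F, hF⟩ := Finset.card_pos.1 (show 0 < 𝓕.card by omega)
    have hQ := S.isQ_of_mem ((hmem𝓕 F).1 hF)
    by_contra hzF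
    refine absurd (Subgroup.card_le_of_le (show F ≤ Subgroup.zpowers z from fun x hx => S.mem_iff.2 ?_)) ?_
    · refine hQ.center x hx fun y hy => ?_
      rcases S.mem_iff.1 (hcm x y) with h | h
      · exact commutatorElement_eq_one_iff_mul_comm.1 h
      · exact absurd (h ▸ Subgroup.commutator_mem_commutator (Subgroup.mem_top x) (Subgroup.mem_top y)) hzF
    · rw [hQ.card, hz2]; norm_num
  · rw [hW]
    interval_cases 𝓕.card <;> simp

end Cfsg.Agent.Lib.LAEven56.FewFixed
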