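/-
Noncyclic abelian groups of automorphisms of two-groups with few fixed involutions.
-/
import Mathlib
import Cfsg.Agent.Lib.LAEven56.FewFixed.Central

set_option autoImplicit false
set_option linter.style.haveILetI false

namespace Cfsg.Agent.Lib.LAEven56.FewFixed

variable {W : Type*} [Group W] [Finite W] {p : ℕ} [hp : Fact p.Prime]

/-- A subgroup of order `p ^ 2` of exponent `p` in a noncyclic abelian `p`-group. -/
theorem exists_sq {A : Type*} [CommGroup A] [Finite A] (hA : IsPGroup p A) (hnc : ¬ IsCyclic A) :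
    ∃ B : Subgroup A, Nat.card B = p ^ 2 ∧ ∀ b ∈ B, b ^ p = 1 := by
  let O : Subgroup A := (powMonoidHom p).ker
  have hO : ∀ x, x ∈ O ↔ x ^ p = 1 := fun x => Iff.rfl
  have hbig : p ^ 2 ∣ Nat.card O := by
    obtain ⟨k, hk⟩ := (hA.to_subgroup O).exists_card_eq
    rw [hk]
    refine Nat.pow_dvd_pow p ?_
    by_contra hlt
    refine hnc (Coprime.isCyclic_of_card_prime_pow_eq_one_le fun q hq => ?_)
    by_cases hqp : q = p
    · subst hqp
      rw [Nat.card_congr (Equiv.subtypeEquivRight (fun x => (hO x).symm) : {x : A // x ^ q = 1} ≃ O), hk]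
      exact (Nat.pow_le_pow_right hp.out.pos (show k ≤ 1 by omega)).trans (pow_one q).le
    · haveI : Subsingleton {x : A // x ^ q = 1} := ⟨fun a b => by
        have h1 : ∀ c : {x : A // x ^ q = 1}, (c : A) = 1 := fun c => by
          obtain ⟨j, hj⟩ := hA c
          have hco : Nat.Coprime q (p ^ j) :=
            ((Nat.coprime_primes hq hp.out).2 hqp).pow_right j
          exact orderOf_eq_one_iff.1 (Nat.dvd_one.1 (hco.gcd_eq_one ▸
            Nat.dvd_gcd (orderOf_dvd_of_pow_eq_one c.2) (orderOf_dvd_of_pow_eq_one hj)))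
        exact Subtype.ext ((h1 a).trans (h1 b).symm)⟩
      haveI : Nonempty {x : A // x ^ q = 1} := ⟨⟨1, one_pow _⟩⟩
      rw [Nat.card_of_subsingleton (⟨1, one_pow _⟩ : {x : A // x ^ q = 1})]
      exact hq.one_lt.le
  obtain ⟨K, hK⟩ := Sylow.exists_subgroup_card_pow_prime (G := O) p hbig
  refine ⟨K.map O.subtype, by rw [Subgroup.card_subtype, hK], ?_⟩
  rintro _ ⟨b, -, rfl⟩
  exact b.2

/-- The main theorem. -/
theorem main (hW : IsPGroup 2 W) (hp2 : p ≠ 2) (E : Subgroup (MulAut W)) (hE : IsPGroup p E)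
    (hab : IsMulCommutative E) (hnc : ¬ IsCyclic E)
    (hfix : ∀ e ∈ E, e ≠ 1 → ∀ x y : W, orderOf x = 2 → orderOf y = 2 → e x = x → e y = y → x = y) :
    Nat.card E = 9 ∧ Cfsg.IsExtraspecial 2 W ∧
      (Nat.card W = 2 ^ 5 ∨ Nat.card W = 2 ^ 7 ∨ Nat.card W = 2 ^ 9) ∧
      {x : W | ∀ e ∈ E, e x = x} = (Subgroup.center W : Set W) := by
  classical
  haveI : Finite (MulAut W) := Finite.of_injective _ (DFunLike.coe_injective (F := MulAut W))
  have hcommE : ∀ a ∈ E, ∀ b ∈ E, Commute a b := fun a ha b hb =>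
    congrArg Subtype.val (hab.is_comm.comm (⟨a, ha⟩ : E) ⟨b, hb⟩)
  letI : CommGroup E := { (inferInstance : Group E) with mul_comm := fun a b => hab.is_comm.comm a b }
  obtain ⟨B, hBcard, hBexp⟩ := exists_sq hE hnc
  set E₀ : Subgroup (MulAut W) := B.map E.subtype with hE₀
  have hle : E₀ ≤ E := Subgroup.map_subtype_le B
  have H : Hyp E₀ p := ⟨hW, hp2, fun a ha b hb => hcommE a (hle ha) b (hle hb),
    by rintro _ ⟨b, hb, rfl⟩; exact congrArg Subtype.val (hBexp b hb),
    by rw [Subgroup.card_subtype, hBcard], fun e he => hfix e (hle he)⟩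
  obtain ⟨h3, z, S⟩ := H.shape
  obtain ⟨hX, hcard, hcen, -⟩ := S.structure H h3
  have hinv : ∀ e ∈ E₀, ∀ g ∈ E, ∀ x ∈ fixS e, g x ∈ fixS e :=
    fun e he g hg => fixS_invariant (hcommE g hg e (hle he))
  have hzo : orderOf z = 2 := orderOf_eq_prime (by rw [sq]; exact S.z_sq) S.z_ne
  -- the centre is fixed by all of `E`
  obtain ⟨e₁, he₁, he₁1⟩ : ∃ e ∈ E₀, e ≠ 1 := by
    by_contra hno
    push Not at hno
    have h : E₀ = ⊥ := (Subgroup.eq_bot_iff_forall _).2 hno
    have := H.card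
    rw [h, Subgroup.card_bot] at this
    nlinarith [hp.out.two_le]
  have hzE : ∀ g ∈ E, g z = z := fun g hg =>
    hfix e₁ (hle he₁) he₁1 _ _ (by rw [MulEquiv.orderOf_eq, hzo]) hzo
      (hinv e₁ he₁ g hg z (S.z_fix e₁ he₁)) (S.z_fix e₁ he₁)
  refine ⟨?_, hX, hcard, ?_⟩
  swap
  · ext x
    simp only [Set.mem_setOf_eq, SetLike.mem_coe, hcen]
    refine ⟨fun h => S.fix_all x fun e he => h e (hle he), ?_⟩
    rintro (rfl | rfl) e he
    · exact map_one e
    · exact hzE e he
  -- some quaternion member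
  obtain ⟨F, hF⟩ : ∃ F, F ∈ fam E₀ := by
    by_contra hno
    push Not at hno
    have hgen := S.gen_fam
    have hset : ({x | ∃ F ∈ fam E₀, x ∈ F} ∪ {z} : Set W) = {z} := by
      ext x
      simp only [Set.mem_union, Set.mem_setOf_eq, Set.mem_singleton_iff, or_iff_right_iff_imp]
      rintro ⟨F, hF, -⟩
      exact absurd hF (hno F)
    rw [hset, ← Subgroup.zpowers_eq_closure] at hgen
    have h2 : Nat.card W = 2 := by
      rw [← Subgroup.card_top, ← hgen, Nat.card_zpowers, hzo]
    rcases hcard with h | h | h <;> omega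
  have hQF := S.isQ_of_mem hF
  obtain ⟨e, he, he1, rfl, -⟩ := hF
  have hFfix : ∀ (K : Subgroup (MulAut W)), K ≤ E → Nat.card K = p ^ 2 → (∀ k ∈ K, k ^ p = 1) →
      (∀ k ∈ K, ∀ x ∈ fixS e, k x = x) → False := by
    intro K hK hKc hKe hKfix
    have H' : Hyp K p := ⟨hW, hp2, fun a ha b hb => hcommE a (hK ha) b (hK hb), hKe, hKc,
      fun a ha => hfix a (hK ha)⟩
    obtain ⟨-, z', S'⟩ := H'.shape
    have hle' : (fixS e : Set W) ⊆ {1, z'} := fun x hx => S'.fix_all x fun k hk => hKfix k hk x hx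
    have := (Set.ncard_le_ncard hle').trans (Set.ncard_insert_le _ _)
    rw [Set.ncard_singleton, ← Nat.card_coe_set_eq, SetLike.coe_sort_coe, hQF.card] at this
    omega
  -- exponent three
  have hexp : ∀ g ∈ E, g ^ p = 1 := by
    intro g hg
    refine MulEquiv.ext fun x => ?_
    have hall : Subgroup.closure {x : W | ∃ d ∈ E₀, d ≠ 1 ∧ d x = x} ≤ fixS (g ^ p) := by
      rw [Subgroup.closure_le]
      rintro y ⟨d, hd, hd1, hdy⟩
      show (g ^ p) y = y
      rcases S.cases d hd hd1 with h | hQ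
      · rcases h y hdy with rfl | rfl
        · exact map_one _
        · exact hzE _ (E.pow_mem hg p)
      · set r := resHom E (fixS d) (hinv d hd)
        by_cases hr : r ⟨g, hg⟩ = 1
        · have h1 : (r (⟨g, hg⟩ ^ p)) ⟨y, hdy⟩ = ⟨y, hdy⟩ := by rw [map_pow, hr, one_pow]; rfl
          simpa [r, resHom] using congrArg Subtype.val h1
        · have hodd : Odd (orderOf (r ⟨g, hg⟩)) := by
            obtain ⟨j, hj⟩ := hE ⟨g, hg⟩
            exact (hp.out.odd_of_ne_two hp2).pow.of_dvd_nat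
              (orderOf_dvd_of_pow_eq_one (by rw [← map_pow, hj, map_one]))
          obtain ⟨_, hz⟩ := auto_cases (hW.to_subgroup _) (H.unique_fixS hd hd1) hodd hr
          have h1 : (r (⟨g, hg⟩ ^ p)) ⟨y, hdy⟩ = ⟨y, hdy⟩ := by rw [map_pow, h3, hz.cube]; rfl
          simpa [r, resHom] using congrArg Subtype.val h1
    exact hall (S.gen ▸ Subgroup.mem_top x)
  have hexp' : ∀ g : E, g ^ p = 1 := fun g => Subtype.ext (by simpa using hexp g g.2)
  obtain ⟨k, hk⟩ := hE.exists_card_eq
  have hk2 : 2 ≤ k := by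
    have h := Subgroup.card_le_of_le hle
    rw [H.card, hk] at h
    exact (Nat.pow_le_pow_iff_right hp.out.one_lt).1 h
  by_cases hk3 : k = 2
  · rw [hk, hk3, h3]; rfl
  exfalso
  -- the restriction to the member
  set r := resHom E (fixS e) (hinv e he)
  have hrange : Nat.card r.range ≤ p := by
    by_contra hlt
    push Not at hlt
    have hexpR : ∀ a : r.range, a ^ p = 1 := by
      rintro ⟨_, g, rfl⟩
      exact Subtype.ext (by rw [SubmonoidClass.coe_pow, ← map_pow, hexp', map_one]; rfl)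
    have hRp : IsPGroup p r.range := hE.of_surjective r.rangeRestrict r.rangeRestrict_surjective
    have hgen := closure_fixed (hW.to_subgroup (fixS e)) r.range.subtype (by
        rintro ⟨_, a, rfl⟩ ⟨_, b, rfl⟩
        exact Subtype.ext (by
          show r a * r b = r b * r a
          rw [← map_mul, ← map_mul, mul_comm]))
      (not_isCyclic hp.out hexpR hlt) (odd_card hp.out hp2 hRp)
    have hle' : (⊤ : Subgroup (fixS e)) ≤ (Subgroup.zpowers z).subgroupOf (fixS e) := by
      rw [← hgen, Subgroup.closure_le]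
      rintro u ⟨⟨a, ha⟩, ha1, hau⟩
      obtain ⟨z', hz'⟩ := auto_cases (hW.to_subgroup _) (H.unique_fixS he he1) (φ := a) (by
          exact (hp.out.odd_of_ne_two hp2).of_dvd_nat (orderOf_dvd_of_pow_eq_one
            (congrArg Subtype.val (hexpR ⟨a, ha⟩))))
        (fun h => ha1 (Subtype.ext h))
      rcases (hz'.fix u).1 hau with h | h
      · rw [h]; exact one_mem _
      · refine Subgroup.mem_subgroupOf.2 (S.mem_iff.2 ?_)
        rcases hQF.center (u : W) u.2 (fun y hy => by
          rw [h]; exact congrArg Subtype.val (hz'.z_comm ⟨y, hy⟩)) with h' | h'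
        · exact Or.inl h'
        · exact Or.inr h'
    have hsub : fixS e ≤ Subgroup.zpowers z := fun x hx =>
      Subgroup.mem_subgroupOf.1 (hle' (Subgroup.mem_top (⟨x, hx⟩ : fixS e)))
    have := Subgroup.card_le_of_le hsub
    rw [hQF.card, Nat.card_zpowers, hzo] at this
    omega
  have hker : p ^ 2 ∣ Nat.card r.ker := by
    have h1 := r.ker.card_mul_index
    rw [Subgroup.index_ker, hk] at h1
    obtain ⟨j, hj⟩ := (hE.to_subgroup r.ker).exists_card_eq
    rw [hj]
    refine Nat.pow_dvd_pow p ?_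
    by_contra hj2
    have : p ^ k ≤ p * p := by
      rw [← h1]
      exact Nat.mul_le_mul (hj ▸ (Nat.pow_le_pow_right hp.out.pos (show j ≤ 1 by omega)).trans
        (pow_one p).le) hrange
    have h3k : p ^ 3 ≤ p ^ k := Nat.pow_le_pow_right hp.out.pos (by omega)
    rw [h3] at this h3k
    omega
  obtain ⟨K, hK⟩ := Sylow.exists_subgroup_card_pow_prime (G := r.ker) p hker
  refine hFfix ((K.map r.ker.subtype).map E.subtype) (Subgroup.map_subtype_le _) ?_ ?_ ?_
  · rw [Subgroup.card_subtype, Subgroup.card_subtype, hK]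
  · intro a ha
    exact hexp a (Subgroup.map_subtype_le _ ha)
  · rintro _ ⟨_, ⟨a, -, rfl⟩, rfl⟩ x hx
    have := MulEquiv.ext_iff.1 a.2 ⟨x, hx⟩
    exact congrArg Subtype.val this

end Cfsg.Agent.Lib.LAEven56.FewFixed
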